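import Mathlib

/-!
# The complex of an injective cosimplicial object
-/

set_option autoImplicit false
set_option backward.isDefEq.respectTransparency false

universe v u

open CategoryTheory CategoryTheory.Limits Simplicial

noncomputable section

namespace Groth.Agent.CosimpLim

variable {A : Type u} [Category.{v} A] [Abelian A]

/-- The complex functor. -/
abbrev CF : (SimplexCategory ⥤ A) ⥤ CochainComplex A ℕ := AlgebraicTopology.alternatingCofaceMapComplex A

theorem CF_d (X : CosimplicialObject A) (n : ℕ) :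
    ((CF).obj X).d n (n + 1) = ∑ i : Fin (n + 2), (-1 : ℤ) ^ (i : ℕ) • X.δ i :=
  CochainComplex.of_d (fun n => X.obj ⦋n⦌) (AlgebraicTopology.AlternatingCofaceMapComplex.objD X) n

variable [∀ k : SimplexCategory, HasProductsOfShape (Σ m : SimplexCategory, k ⟶ m) A] (I : SimplexCategory ⥤ A)

/-- The projections of the coinduced object. -/
def proj (k m : SimplexCategory) (f : k ⟶ m) :
    (∏ᶜ fun x : Σ m : SimplexCategory, k ⟶ m => I.obj x.1) ⟶ I.obj m :=
  Pi.π (fun x : Σ m : SimplexCategory, k ⟶ m => I.obj x.1) ⟨m, f⟩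

theorem proj_congr {k m : SimplexCategory} {f f' : k ⟶ m} (h : f = f') : proj I k m f = proj I k m f' :=
  congrArg (proj I k m) h

theorem coind_ext {k : SimplexCategory} {T : A} {a b : T ⟶ ∏ᶜ fun x : Σ m : SimplexCategory, k ⟶ m => I.obj x.1}
    (h : ∀ m f, a ≫ proj I k m f = b ≫ proj I k m f) : a = b :=
  Pi.hom_ext _ _ fun x => h x.1 x.2

theorem lift_proj {k : SimplexCategory} {T : A} (h : ∀ x : Σ m : SimplexCategory, k ⟶ m, T ⟶ I.obj x.1)
    (m : SimplexCategory) (f : k ⟶ m) : Pi.lift h ≫ proj I k m f = h ⟨m, f⟩ :=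
  limit.lift_π _ _

/-- The coinduced cosimplicial object. -/
def Coind : SimplexCategory ⥤ A where
  obj k := ∏ᶜ fun x : Σ m : SimplexCategory, k ⟶ m => I.obj x.1
  map {k k'} g := Pi.lift fun x => proj I k x.1 (g ≫ x.2)
  map_id k := coind_ext I fun m f => by
    refine (limit.lift_π _ _).trans ?_
    exact (proj_congr I (Category.id_comp f)).trans (Category.id_comp _).symm
  map_comp {k k' k''} g g' := coind_ext I fun m f => by
    simp only [Category.assoc, lift_proj]

theorem coind_map_proj {k k' : SimplexCategory} (g : k ⟶ k') (m : SimplexCategory) (f : k' ⟶ m) :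
    (Coind I).map g ≫ proj I k' m f = proj I k m (g ≫ f) :=
  limit.lift_π _ _

/-- The unit. -/
def η : I ⟶ Coind I where
  app k := Pi.lift fun x => I.map x.2
  naturality k k' g := coind_ext I fun m f => by
    rw [Category.assoc, lift_proj, Category.assoc]
    refine Eq.trans ?_ (congrArg ((Pi.lift fun x : Σ m : SimplexCategory, k ⟶ m => I.map x.2) ≫ ·)
      (coind_map_proj I g m f)).symm
    exact ((lift_proj I _ m (g ≫ f)).trans (I.map_comp g f)).symm

instance mono_η : Mono (η I) := by
  haveI : ∀ k, Mono ((η I).app k) := fun k =>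
    (SplitMono.mk (proj I k k (𝟙 k)) ((limit.lift_π _ _).trans (I.map_id k))).mono
  exact NatTrans.mono_of_mono_app _

open SSet.Augmented.StandardSimplex

theorem δ_zero_shift {n : ℕ} {m : SimplexCategory} (f : ⦋n⦌ ⟶ m) :
    SimplexCategory.δ 0 ≫ shift f = f := by
  apply SimplexCategory.Hom.ext
  ext j : 2
  simp [SimplexCategory.δ]

theorem δ_succ_shift {n : ℕ} {m : SimplexCategory} (f : ⦋n + 1⦌ ⟶ m) (i : Fin (n + 2)) :
    SimplexCategory.δ i.succ ≫ shift f = shift (SimplexCategory.δ i ≫ f) := by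
  apply SimplexCategory.Hom.ext
  ext j : 2
  dsimp [SimplexCategory.δ]
  cases j using Fin.cases <;> simp

/-- The extra codegeneracy. -/
def codeg (n : ℕ) : (Coind I).obj ⦋n + 1⦌ ⟶ (Coind I).obj ⦋n⦌ :=
  Pi.lift fun x => proj I ⦋n + 1⦌ x.1 (shift x.2)

theorem codeg_proj (n : ℕ) (m : SimplexCategory) (f : ⦋n⦌ ⟶ m) :
    codeg I n ≫ proj I ⦋n⦌ m f = proj I ⦋n + 1⦌ m (shift f) :=
  limit.lift_π _ _

theorem δ_zero_codeg (n : ℕ) : CosimplicialObject.δ (Coind I : CosimplicialObject A) (0 : Fin (n + 2)) ≫ codeg I n = 𝟙 _ :=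
  coind_ext I fun m f => by
    refine (Category.assoc _ _ _).trans ((congrArg (CosimplicialObject.δ (Coind I : CosimplicialObject A) (0 : Fin (n + 2)) ≫ ·) (codeg_proj I n m f)).trans ?_)
    refine (coind_map_proj I _ m _).trans ?_
    exact (proj_congr I (δ_zero_shift f)).trans (Category.id_comp _).symm

theorem δ_succ_codeg (n : ℕ) (i : Fin (n + 2)) :
    CosimplicialObject.δ (Coind I : CosimplicialObject A) i.succ ≫ codeg I (n + 1) = codeg I n ≫ CosimplicialObject.δ (Coind I : CosimplicialObject A) i :=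
  coind_ext I fun m f => by
    refine (Category.assoc _ _ _).trans ((congrArg (CosimplicialObject.δ (Coind I : CosimplicialObject A) i.succ ≫ ·) (codeg_proj I (n + 1) m f)).trans ?_)
    refine Eq.trans ?_ (Category.assoc _ _ _).symm
    refine Eq.trans ?_ (congrArg (codeg I n ≫ ·) (coind_map_proj I (SimplexCategory.δ i) m f)).symm
    refine Eq.trans ?_ (codeg_proj I n m _).symm
    exact (coind_map_proj I _ m _).trans (proj_congr I (δ_succ_shift f i))

theorem exactAt_coind (n : ℕ) : ((CF).obj (Coind I)).ExactAt (n + 1) := by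
  rw [HomologicalComplex.exactAt_iff' _ n (n + 1) (n + 1 + 1) (by simp) (by simp),
    ShortComplex.exact_iff_exact_up_to_refinements]
  intro T x hx
  change T ⟶ (Coind I).obj ⦋n + 1⦌ at x
  refine ⟨T, 𝟙 T, inferInstance, x ≫ codeg I n, ?_⟩
  have hd := congrArg (· ≫ codeg I (n + 1))
    ((congrArg (x ≫ ·) (CF_d (Coind I) (n + 1))).symm.trans hx)
  simp only [zero_comp, Category.assoc, Preadditive.sum_comp, Linear.smul_comp, Fin.sum_univ_succ (n := n + 2),
    Preadditive.comp_add, Preadditive.add_comp, δ_zero_codeg, δ_succ_codeg, Fin.val_zero, pow_zero, one_smul,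
    Category.comp_id] at hd
  refine (Category.id_comp x).trans (Eq.trans ?_ (congrArg ((x ≫ codeg I n) ≫ ·) (CF_d (Coind I) n)).symm)
  simp only [Fin.val_succ, pow_succ, mul_neg, mul_one, neg_smul, Finset.sum_neg_distrib, Preadditive.comp_neg] at hd
  rw [← sub_eq_add_neg, sub_eq_zero] at hd
  refine hd.trans ?_
  simp only [Preadditive.comp_sum, Preadditive.comp_zsmul, Linear.comp_smul, Category.assoc]

theorem isZero_homology_of_injective [Injective I] (n : ℕ) : IsZero (((CF).obj I).homology (n + 1)) := by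
  have h := congrArg (fun a => HomologicalComplex.homologyMap ((CF).map a) (n + 1))
    (Injective.comp_factorThru (𝟙 I) (η I))
  simp only [Functor.map_comp, HomologicalComplex.homologyMap_comp, CategoryTheory.Functor.map_id,
    HomologicalComplex.homologyMap_id] at h
  rw [((HomologicalComplex.exactAt_iff_isZero_homology _ _).1 (exactAt_coind I n)).eq_of_tgt
    (HomologicalComplex.homologyMap ((CF).map (η I)) (n + 1)) 0, zero_comp] at h
  exact (IsZero.iff_id_eq_zero _).2 h.symm

end Groth.Agent.CosimpLim
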