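import Groth.Agent.CosimpLim.Coface

/-!
# Derived limits over the simplex category
-/

set_option autoImplicit false
set_option backward.isDefEq.respectTransparency false

universe v u

open CategoryTheory CategoryTheory.Limits Simplicial

noncomputable section

namespace Groth.Agent.CosimpLim

variable {A : Type u} [Category.{v} A] [Abelian A] [HasLimitsOfShape SimplexCategory A]

/-- The vertices. -/
def vert (n : SimplexCategory) (i : Fin (n.len + 1)) : ⦋0⦌ ⟶ n := SimplexCategory.const ⦋0⦌ n i

theorem δ_mkOfLe {n : SimplexCategory} (i j : Fin (n.len + 1)) (h : i ≤ j) :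
    SimplexCategory.δ (1 : Fin 2) ≫ SimplexCategory.mkOfLe i j h = vert n i ∧
    SimplexCategory.δ (0 : Fin 2) ≫ SimplexCategory.mkOfLe i j h = vert n j := by
  constructor <;> (apply SimplexCategory.Hom.ext; ext x : 2; fin_cases x; rfl)

theorem hom_zero_eq_vert {n : SimplexCategory} (g : ⦋0⦌ ⟶ n) : g = vert n (g.toOrderHom 0) :=
  SimplexCategory.eq_const_of_zero g

theorem CF_d_zero (X : SimplexCategory ⥤ A) :
    ((CF).obj X).d 0 1 = X.map (SimplexCategory.δ (0 : Fin 2)) - X.map (SimplexCategory.δ (1 : Fin 2)) := by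
  refine (CF_d X 0).trans ?_
  rw [Fin.sum_univ_two]
  simp only [CosimplicialObject.δ, Fin.val_zero, Fin.val_one, pow_zero, one_smul, pow_one, neg_smul]
  rw [sub_eq_add_neg]

theorem π_zero_d (X : SimplexCategory ⥤ A) : limit.π X ⦋0⦌ ≫ ((CF).obj X).d 0 1 = 0 := by
  rw [CF_d_zero]
  refine (Preadditive.comp_sub _ _ _).trans ?_
  rw [limit.w, limit.w, sub_self]

theorem map_vert_eq {X : SimplexCategory ⥤ A} {T : A} (k : T ⟶ X.obj ⦋0⦌)
    (hk : k ≫ X.map (SimplexCategory.δ (0 : Fin 2)) = k ≫ X.map (SimplexCategory.δ (1 : Fin 2)))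
    (n : SimplexCategory) (i j : Fin (n.len + 1)) : k ≫ X.map (vert n i) = k ≫ X.map (vert n j) := by
  wlog h : i ≤ j generalizing i j
  · exact (this j i (le_of_not_ge h)).symm
  rw [← (δ_mkOfLe i j h).1, ← (δ_mkOfLe i j h).2, X.map_comp, X.map_comp, ← Category.assoc, ← hk, Category.assoc]

/-- The limit is the kernel of the first differential. -/
def limitKernel (X : SimplexCategory ⥤ A) : IsLimit (KernelFork.ofι (limit.π X ⦋0⦌) (π_zero_d X)) := by
  haveI : Mono (limit.π X ⦋0⦌) := Preadditive.mono_of_cancel_zero _ fun {T} a ha => limit.hom_ext fun n => by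
    rw [← limit.w X (vert n 0), ← Category.assoc, ha, zero_comp, zero_comp]
  refine KernelFork.IsLimit.ofι' _ _ fun {T} k hk => ?_
  have hk' : k ≫ X.map (SimplexCategory.δ (0 : Fin 2)) = k ≫ X.map (SimplexCategory.δ (1 : Fin 2)) := by
    rw [← sub_eq_zero]
    exact (Preadditive.comp_sub _ _ _).symm.trans ((congrArg (k ≫ ·) (CF_d_zero X)).symm.trans hk)
  refine ⟨limit.lift X (Cone.mk T { app := fun n => k ≫ X.map (vert n 0), naturality := fun n m g => ?_ }), ?_⟩
  · show 𝟙 T ≫ k ≫ X.map (vert m 0) = (k ≫ X.map (vert n 0)) ≫ X.map g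
    rw [Category.id_comp, Category.assoc, ← X.map_comp]
    have e : vert n 0 ≫ g = vert m (g.toOrderHom 0) := hom_zero_eq_vert _
    rw [e]
    exact map_vert_eq k hk' m _ _
  · refine (limit.lift_π _ _).trans ?_
    show k ≫ X.map (vert ⦋0⦌ 0) = k
    rw [show vert ⦋0⦌ 0 = 𝟙 _ from (hom_zero_eq_vert (𝟙 ⦋0⦌)).symm, X.map_id, Category.comp_id]

/-- The limit is the object of zero cycles. -/
def limCycles (X : SimplexCategory ⥤ A) : limit X ≅ ((CF).obj X).cycles 0 :=
  IsLimit.conePointUniqueUpToIso (limitKernel X) (((CF).obj X).cyclesIsKernel 0 1 (by simp))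

theorem limCycles_hom (X : SimplexCategory ⥤ A) :
    (limCycles X).hom ≫ ((CF).obj X).iCycles 0 = limit.π X ⦋0⦌ :=
  IsLimit.conePointUniqueUpToIso_hom_comp (limitKernel X) (((CF).obj X).cyclesIsKernel 0 1 (by simp))
    WalkingParallelPair.zero

theorem limCycles_naturality {X Y : SimplexCategory ⥤ A} (f : X ⟶ Y) :
    (lim : (SimplexCategory ⥤ A) ⥤ A).map f ≫ (limCycles Y).hom =
      (limCycles X).hom ≫ HomologicalComplex.cyclesMap ((CF).map f) 0 := by
  rw [← cancel_mono (((CF).obj Y).iCycles 0), Category.assoc, Category.assoc, HomologicalComplex.cyclesMap_i,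
    limCycles_hom, ← Category.assoc, limCycles_hom]
  exact limMap_π f ⦋0⦌

/-- Degree zero cohomology of the coface complex. -/
def limIso : (lim : (SimplexCategory ⥤ A) ⥤ A) ≅ CF ⋙ HomologicalComplex.homologyFunctor A _ 0 :=
  NatIso.ofComponents (fun X => limCycles X ≪≫ CochainComplex.isoHomologyπ₀ ((CF).obj X)) fun {X Y} f => by
    show (lim : (SimplexCategory ⥤ A) ⥤ A).map f ≫ (limCycles Y).hom ≫ ((CF).obj Y).homologyπ 0 =
      ((limCycles X).hom ≫ ((CF).obj X).homologyπ 0) ≫ HomologicalComplex.homologyMap ((CF).map f) 0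
    rw [Category.assoc, HomologicalComplex.homologyπ_naturality, ← Category.assoc, limCycles_naturality,
      Category.assoc]

instance additive_CF : (CF (A := A)).Additive where
  map_add {X Y f g} := by
    ext n
    rfl

variable [∀ k : SimplexCategory, HasProductsOfShape (Σ m : SimplexCategory, k ⟶ m) A]

theorem shortExact_CF {S : ShortComplex (SimplexCategory ⥤ A)} (hS : S.ShortExact) :
    (S.map (CF (A := A))).ShortExact :=
  HomologicalComplex.shortExact_of_degreewise_shortExact _ fun n =>
    (hS.map_of_exact ((evaluation SimplexCategory A).obj ⦋n⦌) :)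

variable [EnoughInjectives (SimplexCategory ⥤ A)] [(lim : (SimplexCategory ⥤ A) ⥤ A).Additive]

theorem nonempty_iso (F : SimplexCategory ⥤ A) (n : ℕ) :
    Nonempty (((lim : (SimplexCategory ⥤ A) ⥤ A).rightDerived n).obj F ≅ ((CF).obj F).homology n) := by
  cases n with
  | zero => exact ⟨(lim : (SimplexCategory ⥤ A) ⥤ A).rightDerivedZeroIsoSelf.app F ≪≫ limIso.app F⟩
  | succ n =>
    let L : (SimplexCategory ⥤ A) ⥤ A := lim
    let R := injectiveResolution F
    let Z : ℕ → (SimplexCategory ⥤ A) := fun i => kernel (R.cocomplex.d i (i + 1))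
    let l : ∀ i, R.cocomplex.X i ⟶ Z (i + 1) := fun i =>
      kernel.lift (R.cocomplex.d (i + 1) (i + 1 + 1)) (R.cocomplex.d i (i + 1)) (R.cocomplex.d_comp_d _ _ _)
    let T : ℕ → ShortComplex (SimplexCategory ⥤ A) := fun i =>
      ShortComplex.mk (kernel.ι (R.cocomplex.d i (i + 1))) (l i)
        (by rw [← cancel_mono (kernel.ι _), Category.assoc, kernel.lift_ι, kernel.condition, zero_comp])
    have hT : ∀ i, (T i).ShortExact := fun i =>
      { exact := by
          rw [ShortComplex.exact_iff_exact_up_to_refinements]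
          intro W x hx
          dsimp [T] at x hx
          have hx' : x ≫ R.cocomplex.d i (i + 1) = 0 := by
            rw [← kernel.lift_ι (R.cocomplex.d (i + 1) (i + 1 + 1)) (R.cocomplex.d i (i + 1))
              (R.cocomplex.d_comp_d _ _ _), ← Category.assoc]
            exact (congrArg (· ≫ kernel.ι _) hx).trans zero_comp
          exact ⟨W, 𝟙 W, inferInstance, kernel.lift _ x hx', by simp [T]⟩
        mono_f := inferInstanceAs (Mono (kernel.ι _))
        epi_g := (R.exact_succ i).epi_kernelLift }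
    haveI : ∀ i, Injective (T i).X₂ := fun i => R.injective i
    have hz : ∀ i k, IsZero (((CF).obj (T i).X₂).homology (k + 1)) := fun i k => isZero_homology_of_injective _ k
    have key : ∀ m i, i + m = n → Nonempty (((CF).obj (Z i)).homology (m + 1) ≅ ((CF).obj (Z n)).homology 1) := by
      intro m
      induction m with
      | zero =>
        intro i hi
        subst hi
        exact ⟨Iso.refl _⟩
      | succ m ih =>
        intro i hi
        obtain ⟨e⟩ := ih (i + 1) (by omega)
        haveI : IsIso ((shortExact_CF (hT i)).δ (m + 1) (m + 1 + 1) rfl) :=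
          (shortExact_CF (hT i)).isIso_δ _ _ rfl (hz i m) (hz i (m + 1))
        exact ⟨(asIso ((shortExact_CF (hT i)).δ (m + 1) (m + 1 + 1) rfl)).symm ≪≫ e⟩
    obtain ⟨e₀⟩ := key n 0 (Nat.zero_add n)
    haveI : Mono (ShortComplex.mk (R.ι.f 0) (R.cocomplex.d 0 1) R.ι_f_zero_comp_complex_d).f :=
      inferInstanceAs (Mono (R.ι.f 0))
    let e₁ : F ≅ Z 0 := IsLimit.conePointUniqueUpToIso R.exact₀.fIsKernel (limit.isLimit _)
    -- the cohomology in degree one
    have hδ := shortExact_CF (hT n)
    haveI : Epi (hδ.δ 0 1 rfl) := hδ.epi_δ 0 1 rfl (hz n 0)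
    let e₂ : ((CF).obj (Z n)).homology 1 ≅ cokernel (HomologicalComplex.homologyMap ((CF).map (l n)) 0) :=
      IsColimit.coconePointUniqueUpToIso (hδ.homology_exact₃ 0 1 rfl).gIsCokernel (colimit.isColimit _)
    let e₃ : cokernel (HomologicalComplex.homologyMap ((CF).map (l n)) 0) ≅ cokernel (L.map (l n)) :=
      cokernel.mapIso _ _ ((limIso (A := A)).app _).symm ((limIso (A := A)).app _).symm
        ((limIso (A := A)).inv.naturality (l n))
    -- the right derived functor
    let G := (L.mapHomologicalComplex (ComplexShape.up ℕ)).obj R.cocomplex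
    let S := G.sc' n (n + 1) (n + 1 + 1)
    let hi : IsLimit (KernelFork.ofι (L.map (kernel.ι (R.cocomplex.d (n + 1) (n + 1 + 1))))
        (show L.map (kernel.ι (R.cocomplex.d (n + 1) (n + 1 + 1))) ≫ S.g = 0 from
          (L.map_comp _ _).symm.trans ((congrArg L.map (kernel.condition _)).trans (L.map_zero _ _)))) :=
      KernelFork.mapIsLimit _ (kernelIsKernel (R.cocomplex.d (n + 1) (n + 1 + 1))) L
    have hw : S.f = L.map (l n) ≫ L.map (kernel.ι (R.cocomplex.d (n + 1) (n + 1 + 1))) := by
      rw [← L.map_comp, kernel.lift_ι]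
      rfl
    let D : S.LeftHomologyData :=
      { K := L.obj (Z (n + 1))
        H := cokernel (L.map (l n))
        i := L.map (kernel.ι (R.cocomplex.d (n + 1) (n + 1 + 1)))
        π := cokernel.π _
        wi := (L.map_comp _ _).symm.trans ((congrArg L.map (kernel.condition _)).trans (L.map_zero _ _))
        hi := hi
        wπ := by
          have e : hi.lift (KernelFork.ofι S.f S.zero) = L.map (l n) :=
            Fork.IsLimit.hom_ext hi ((hi.fac _ WalkingParallelPair.zero).trans hw)
          rw [e]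
          exact cokernel.condition _
        hπ := by
          have e : hi.lift (KernelFork.ofι S.f S.zero) = L.map (l n) :=
            Fork.IsLimit.hom_ext hi ((hi.fac _ WalkingParallelPair.zero).trans hw)
          exact CokernelCofork.IsColimit.ofπ _ _
            (fun {Y} g hg => cokernel.desc _ g ((congrArg (· ≫ g) e).symm.trans hg))
            (fun {Y} g hg => cokernel.π_desc _ _ _)
            (fun {Y} g hg m hm => coequalizer.hom_ext (hm.trans (cokernel.π_desc _ _ _).symm)) }
    exact ⟨R.isoRightDerivedObj L (n + 1) ≪≫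
      ShortComplex.homologyMapIso (G.isoSc' n (n + 1) (n + 1 + 1) (by simp) (by simp)) ≪≫ D.homologyIso ≪≫
      e₃.symm ≪≫ e₂.symm ≪≫ e₀.symm ≪≫
      (HomologicalComplex.homologyFunctor A _ (n + 1)).mapIso ((CF).mapIso e₁.symm)⟩

end Groth.Agent.CosimpLim
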